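import Cfsg.Agent.MaxSub.TensorPow.Classify

/-!
With at least four dimensions a square-zero monomial element of small rank does not move the
factors.
-/

set_option autoImplicit false
set_option linter.style.haveILetI false
set_option linter.unusedSectionVars false

namespace Cfsg.Agent.MaxSub.TensorPowU

open Module Matrix Cfsg.Agent.MaxSub.TensorPow Cfsg.Agent.MaxSub.ExtField

variable {F : Type*} [Field F] [Finite F] {m t : ℕ} {σ : Equiv.Perm (Fin t)}
  {A : Fin t → Matrix (Fin m) (Fin m) F} {n : Ten F m t ≃ₗ[F] Ten F m t}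

/-- A swap has too large a rank. -/
theorem false_of_ne_one (hm4 : 4 ≤ m) (hn : Wit σ A n) (hsq : ∀ X, n (n X - X) = n X - X)
    (hrank : finrank F (LinearMap.range (n.toLinearMap - LinearMap.id)) * m ≤ m ^ t)
    (hσ : σ ≠ 1) : False := by
  have hm : 3 ≤ m := by omega
  classical
  obtain ⟨p, hpF⟩ := CharP.exists F
  haveI := hpF
  haveI : Fact p.Prime := ⟨CharP.char_is_prime F p⟩
  have hinv : ∀ i, σ (σ i) = i := sigma_sq hm hn hsq
  have hs2 : σ ^ 2 = 1 := Equiv.ext fun i => by rw [pow_two]; exact hinv i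
  have hpow : ∀ (k : ℕ) X, (n ^ k) X = X + k • (n X - X) := fun k => by
    induction k with
    | zero => simp
    | succ k ih =>
      intro X
      rw [pow_succ', LinearEquiv.mul_apply, ih, map_add, map_nsmul, hsq, succ_nsmul]
      abel
  have hnp : n ^ p = 1 := LinearEquiv.ext fun X => by
    rw [hpow, ← Nat.cast_smul_eq_nsmul F, CharP.cast_eq_zero, zero_smul, add_zero]; rfl
  obtain ⟨B, hB⟩ := wit_pow hn p
  rw [hnp] at hB
  have hσp : σ ^ p = 1 := wit_one (by omega) hB
  have hp2 : p = 2 := by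
    by_contra hp
    obtain ⟨k, hk⟩ := (Fact.out : p.Prime).odd_of_ne_two hp
    rw [hk, pow_succ, pow_mul, hs2, one_pow, one_mul] at hσp
    exact hσ hσp
  subst hp2
  -- products `A i A (σ i)` are scalar
  have hscal : ∀ i v, A i *ᵥ (A (σ i) *ᵥ v) ∈ F ∙ v := fun i v => by
    rcases eq_or_ne v 0 with rfl | hv
    · simp
    set us : Fin t → Fin m → F := fun _ => v
    have h2 : n (n (pvec us)) = pvec us := by
      rw [← LinearEquiv.mul_apply, ← pow_two, hnp]; rfl
    rw [hn, hn] at h2
    exact pvec_pure_eq h2 (fun _ => hv) i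
  -- a first moved pair
  obtain ⟨j₀, hj₀⟩ : ∃ j, σ j ≠ j := by
    by_contra hc; push Not at hc; exact hσ (Equiv.ext hc)
  obtain ⟨j, k, hjk, hσj⟩ : ∃ j k, j < k ∧ σ j = k := by
    rcases lt_or_gt_of_ne hj₀ with h | h
    · exact ⟨σ j₀, j₀, h, hinv j₀⟩
    · exact ⟨j₀, σ j₀, h, rfl⟩
  have hσk : σ k = j := hσj ▸ hinv j
  -- a basis adapted to `n` at each factor
  let Q : Fin t → Matrix (Fin m) (Fin m) F := fun i => if σ i < i then A i else 1
  have hQu : ∀ i, IsUnit (Q i).det := fun i => by
    simp only [Q]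
    split_ifs
    · exact (Matrix.isUnit_iff_isUnit_det _).1
        (Matrix.mulVec_injective_iff_isUnit.1 (wit_injective (by omega) hn i))
    · simp
  let f : (Fin t → Fin m) → Ten F m t := fun z => pvec fun i => Q i *ᵥ Pi.single (z i) 1
  let ψ : (Fin t → Fin m) → Ten F m t →ₗ[F] F := fun w => fprod fun i => (Q i)⁻¹ (w i)
  have hdual : ∀ i a b, (Q i)⁻¹ a ⬝ᵥ (Q i *ᵥ Pi.single b 1) = if a = b then 1 else 0 := fun i a b => by
    rw [show (Q i)⁻¹ a ⬝ᵥ (Q i *ᵥ Pi.single b 1) = ((Q i)⁻¹ *ᵥ (Q i *ᵥ Pi.single b 1)) a from rfl,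
      Matrix.mulVec_mulVec, Matrix.nonsing_inv_mul _ (hQu i), Matrix.one_mulVec, Pi.single_apply]
  have hψf : ∀ w z, ψ w (f z) = if w = z then 1 else 0 := fun w z => by
    simp only [ψ, f, fprod_pvec, hdual, Finset.prod_ite_zero, Finset.mem_univ, forall_const,
      Finset.prod_const_one]
    exact if_congr ⟨fun h => funext h, fun h _ => h ▸ rfl⟩ rfl rfl
  have hmove : ∀ w z i', σ i' ≠ i' → z (σ i') ≠ w i' → ψ w (n (f z)) = 0 := by
    intro w z i' hi' hne
    simp only [ψ, f, hn _, fprod_pvec]
    refine Finset.prod_eq_zero (Finset.mem_univ i') ?_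
    rcases lt_or_gt_of_ne hi' with h | h
    · have e : Q i' = A i' := if_pos h
      have e' : Q (σ i') = 1 := if_neg (by rw [hinv]; exact h.not_gt)
      rw [e', Matrix.one_mulVec, ← e, hdual, if_neg (Ne.symm hne)]
    · have e : Q i' = 1 := if_neg h.not_gt
      have e' : Q (σ i') = A (σ i') := if_pos (by rw [hinv]; exact h)
      obtain ⟨c, hc⟩ := Submodule.mem_span_singleton.1 (hscal i' (Pi.single (z (σ i')) 1))
      rw [e', ← hc, dotProduct_smul, ← Matrix.one_mulVec (Pi.single (z (σ i')) 1), ← e, hdual,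
        if_neg (Ne.symm hne), smul_zero]
  -- an independent family
  haveI : NeZero m := ⟨by omega⟩
  let good : (Fin t → Fin m) → Prop := fun z => z j < z k
  have hgood : ∀ w z : {z // good z}, ψ w.1 (n (f z.1)) = 0 := by
    rintro ⟨w, hw⟩ ⟨z, hz⟩
    by_contra hne
    have hk : ∀ i', σ i' ≠ i' → z (σ i') = w i' :=
      fun i' hi' => by_contra fun h => hne (hmove w z i' hi' h)
    have ej : z k = w j := hσj ▸ hk j (by rw [hσj]; exact hjk.ne')
    have ek : z j = w k := hσk ▸ hk k (by rw [hσk]; exact hjk.ne)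
    simp only [good, Fin.lt_def] at hw hz
    rw [ej, ek] at hz
    omega
  let D := n.toLinearMap - (LinearMap.id : Ten F m t →ₗ[F] Ten F m t)
  let g : {z // good z} → LinearMap.range D :=
    fun z => ⟨D (f z.1), LinearMap.mem_range_self D _⟩
  have hind : LinearIndependent F g := by
    rw [Fintype.linearIndependent_iff]
    intro c hc w
    have h1 := congrArg (fun X : LinearMap.range D => ψ w.1 (X : Ten F m t)) hc
    simp only [g, D, Submodule.coe_sum, Submodule.coe_smul, map_sum, map_smul, LinearMap.sub_apply,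
      LinearEquiv.coe_coe, LinearMap.id_apply, map_sub, hgood, hψf, Submodule.coe_zero, map_zero,
      smul_eq_mul] at h1
    rw [Finset.sum_eq_single w (fun z _ hz => by
      rw [if_neg (fun h => hz (Subtype.ext h.symm)), sub_self, mul_zero]) (by simp)] at h1
    simpa using h1
  have hcard := hind.fintype_card_le_finrank
  -- counting
  let i0 : Fin m := ⟨0, by omega⟩
  let i1 : Fin m := ⟨1, by omega⟩
  let iL : Fin m := ⟨m - 1, by omega⟩
  let pick : Fin m → Fin m × Fin m := fun a => if a.1 + 1 = m then (i0, i1) else (a, iL)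
  let up : ({i // i ≠ k} → Fin m) → Fin t → Fin m := fun r i =>
    if i = j then (pick (r ⟨j, hjk.ne⟩)).1 else if hik : i = k then (pick (r ⟨j, hjk.ne⟩)).2
    else r ⟨i, hik⟩
  let z₀ : Fin t → Fin m := fun i => if i = k then ⟨2, by omega⟩ else i0
  have hup : ∀ r, up r j < up r k := fun r => by
    simp only [up, if_true, if_neg hjk.ne', dite_true, pick, i0, i1, iL]
    split_ifs with h <;> simp [Fin.lt_def]
    have := (r ⟨j, hjk.ne⟩).isLt
    omega
  let emb : ({i // i ≠ k} → Fin m) ⊕ Unit → {z // good z} := Sum.elim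
    (fun r => ⟨up r, hup r⟩)
    (fun _ => ⟨z₀, by
      show (z₀ j).1 < (z₀ k).1
      simp [z₀, hjk.ne, i0]⟩)
  have hemb : Function.Injective emb := by
    rintro (r | u) (r' | u') h
    · simp only [emb, Sum.elim_inl, Subtype.mk.injEq] at h
      congr 1
      funext ⟨i, hik⟩
      rcases eq_or_ne i j with rfl | hij
      · have e1 := congrFun h i
        have e2 := congrFun h k
        simp only [up, if_true, if_neg hjk.ne', dite_true, pick, i0, i1, iL] at e1 e2
        have := (r ⟨i, hjk.ne⟩).isLt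
        have := (r' ⟨i, hjk.ne⟩).isLt
        split_ifs at e1 e2 with h1 h2 <;> simp only [Fin.ext_iff] at e1 e2 ⊢ <;> omega
      · have := congrFun h i
        simpa [up, hij, hik] using this
    · simp only [emb, Sum.elim_inl, Sum.elim_inr, Subtype.mk.injEq] at h
      have e1 := congrFun h j
      have e2 := congrFun h k
      simp only [up, z₀, if_true, if_neg hjk.ne', if_neg hjk.ne, dite_true, pick, i0, i1, iL]
        at e1 e2
      split_ifs at e1 e2 with h1 <;> simp only [Fin.ext_iff] at e1 e2 <;> omega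
    · simp only [emb, Sum.elim_inl, Sum.elim_inr, Subtype.mk.injEq] at h
      have e1 := congrFun h j
      have e2 := congrFun h k
      simp only [up, z₀, if_true, if_neg hjk.ne', if_neg hjk.ne, dite_true, pick, i0, i1, iL]
        at e1 e2
      split_ifs at e1 e2 with h1 <;> simp only [Fin.ext_iff] at e1 e2 <;> omega
    · rfl
  have hc2 := (Fintype.card_le_of_injective emb hemb).trans hcard
  rw [Fintype.card_sum, Fintype.card_fun, Fintype.card_unit, Fintype.card_fin,
    Fintype.card_subtype_compl, Fintype.card_fin, Fintype.card_subtype_eq] at hc2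
  have h3 : (m ^ (t - 1) + 1) * m ≤ m ^ t := (Nat.mul_le_mul_right m hc2).trans hrank
  rw [add_mul, ← pow_succ, Nat.sub_add_cancel (by have := j.isLt; omega)] at h3
  omega

end Cfsg.Agent.MaxSub.TensorPowU
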